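import Groth.Agent.Misc7.DegeneracyBlowUp.Algebra
import Groth.Agent.GrassRep.Construct
import Groth.Agent.KoszulReg.Relations

/-!
The charts of the Grassmannian of corank one quotients of the cokernel of a Koszul-regular section:
the defining ideal becomes principal, generated by a nonzerodivisor.
-/

set_option autoImplicit false
set_option linter.style.haveILetI false
set_option backward.isDefEq.respectTransparency false

universe u

open TensorProduct Matrix Module Groth.GrassRep

namespace Groth.Misc7.KoszulBlowUpGrass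

open Groth.Misc7.DegeneracyBlowUp Groth.Misc3Fitt

variable {R : Type u} [CommRing R] {n k : ℕ}

open MvPolynomial in
/-- If the relations of `f` are trivial then `f c` is a nonzerodivisor modulo the elements
`f (J i) + f c · Xᵢ`. -/
theorem mem_span_of_mul_mem (f : Fin n → R) (hf : CInt.KoszulH1Zero f R) (J : Fin k → Fin n) (c : Fin n)
    (hJ : Function.Injective J) (hcJ : ∀ i, J i ≠ c) (hall : ∀ l, l = c ∨ l ∈ Set.range J)
    (a : MvPolynomial (Fin k) R)
    (ha : a * C (f c) ∈ Ideal.span (Set.range fun i => C (f (J i)) + C (f c) * X i)) :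
    a ∈ Ideal.span (Set.range fun i => C (f (J i)) + C (f c) * X i) := by
  classical
  set g : Fin k → MvPolynomial (Fin k) R := fun i => C (f (J i)) + C (f c) * X i with hg
  obtain ⟨b, hb⟩ := Ideal.mem_span_range_iff_exists_fun.1 ha
  let v : Fin n → MvPolynomial (Fin k) R :=
    (∑ i, Pi.single (J i) (b i)) + Pi.single c (∑ i, b i * X i - a)
  have hvJ : ∀ i, v (J i) = b i := fun i => by
    simp only [v, Pi.add_apply, Finset.sum_apply, Pi.single_apply, hJ.eq_iff, if_neg (hcJ i), add_zero,
      Finset.sum_ite_eq, Finset.mem_univ, if_true]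
  have hvc : v c = ∑ i, b i * X i - a := by
    simp only [v, Pi.add_apply, Finset.sum_apply, Pi.single_eq_same]
    rw [Finset.sum_eq_zero fun i _ => Pi.single_eq_of_ne' (hcJ i) _, zero_add]
  have huniv : (Finset.univ : Finset (Fin n)) = insert c (Finset.univ.image J) := by
    refine (Finset.eq_univ_of_forall fun l => ?_).symm
    rcases hall l with h | ⟨i, rfl⟩
    · exact Finset.mem_insert.2 (Or.inl h)
    · exact Finset.mem_insert.2 (Or.inr (Finset.mem_image_of_mem J (Finset.mem_univ i)))
  have hcn : c ∉ Finset.univ.image J := by simpa using hcJ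
  have hv0 : ∑ l, C (f l) * v l = 0 := by
    rw [huniv, Finset.sum_insert hcn, Finset.sum_image fun i _ i' _ h => hJ h, hvc]
    simp only [hvJ]
    rw [mul_sub, Finset.mul_sum, mul_comm _ a, ← hb]
    simp only [hg, mul_add, Finset.sum_add_distrib]
    simp only [mul_comm (C (f (J _)) : MvPolynomial (Fin k) R) (b _), mul_left_comm (C (f c)) (b _)]
    ring
  let u : Fin n → MvPolynomial (Fin k) R := (∑ i, Pi.single (J i) (-X i)) + Pi.single c 1
  have huJ : ∀ i, u (J i) = -X i := fun i => by
    simp only [u, Pi.add_apply, Finset.sum_apply, Pi.single_apply, hJ.eq_iff, if_neg (hcJ i), add_zero,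
      Finset.sum_ite_eq, Finset.mem_univ, if_true]
  have huc : u c = 1 := by
    simp only [u, Pi.add_apply, Finset.sum_apply, Pi.single_eq_same]
    rw [Finset.sum_eq_zero fun i _ => Pi.single_eq_of_ne' (hcJ i) _, zero_add]
  let L : (Fin n → MvPolynomial (Fin k) R) →ₗ[MvPolynomial (Fin k) R] MvPolynomial (Fin k) R :=
    Fintype.linearCombination (MvPolynomial (Fin k) R) u
  have hcong : ∀ l, C (f l) - u l * C (f c) ∈ Ideal.span (Set.range g) := fun l => by
    rcases hall l with rfl | ⟨i, rfl⟩
    · rw [huc, one_mul, sub_self]; exact zero_mem _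
    · rw [huJ, neg_mul, sub_neg_eq_add, mul_comm]
      exact Ideal.subset_span ⟨i, rfl⟩
  have htriv : ∀ w ∈ Submodule.span R {w : Fin n → R | ∃ (i j : Fin n) (x : R),
      w = f j • (Pi.single i x : Fin n → R) - f i • (Pi.single j x : Fin n → R)}, ∀ m,
      L (fun l => monomial m (w l)) ∈ Ideal.span (Set.range g) := by
    intro w hw m
    induction hw using Submodule.span_induction with
    | mem w hw =>
      obtain ⟨i, j, x, rfl⟩ := hw
      have e : (fun l => monomial m ((f j • (Pi.single i x : Fin n → R) - f i • (Pi.single j x : Fin n → R)) l)) =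
          (C (f j) * monomial m x) • (Pi.single i 1 : Fin n → MvPolynomial (Fin k) R) -
            (C (f i) * monomial m x) • Pi.single j 1 := by
        funext l
        simp only [Pi.sub_apply, Pi.smul_apply, Pi.single_apply, smul_eq_mul, map_sub]
        split_ifs <;> simp [C_mul_monomial]
      rw [e, map_sub, map_smul, map_smul, Fintype.linearCombination_apply_single,
        Fintype.linearCombination_apply_single, one_smul, one_smul, smul_eq_mul, smul_eq_mul]
      have key : C (f j) * monomial m x * u i - C (f i) * monomial m x * u j =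
          monomial m x * u i * (C (f j) - u j * C (f c)) -
            monomial m x * u j * (C (f i) - u i * C (f c)) := by ring
      rw [key]
      exact sub_mem (Ideal.mul_mem_left _ _ (hcong j)) (Ideal.mul_mem_left _ _ (hcong i))
    | zero =>
      simp only [Pi.zero_apply, map_zero]
      rw [show (fun _ : Fin n => (0 : MvPolynomial (Fin k) R)) = 0 from rfl, map_zero]
      exact zero_mem _
    | add w w' _ _ h h' =>
      simp only [Pi.add_apply, map_add]
      rw [show (fun l => monomial m (w l) + monomial m (w' l)) =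
        (fun l => monomial m (w l)) + fun l => monomial m (w' l) from rfl, map_add]
      exact add_mem h h'
    | smul r w _ h =>
      rw [show (fun l => monomial m ((r • w) l)) = (C r : MvPolynomial (Fin k) R) • (fun l => monomial m (w l) : Fin n → MvPolynomial (Fin k) R) from funext fun l => by
        show monomial m (r * w l) = C r * monomial m (w l)
        rw [C_mul_monomial], map_smul]
      exact Submodule.smul_mem _ _ h
  let s : Finset (Fin k →₀ ℕ) := Finset.univ.biUnion fun l => (v l).support
  have hdec : v = ∑ m ∈ s, fun l => monomial m (coeff m (v l)) := by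
    funext l
    rw [Finset.sum_apply]
    conv_lhs => rw [(v l).as_sum]
    exact Finset.sum_subset (Finset.subset_biUnion_of_mem (fun l => (v l).support) (Finset.mem_univ l))
      fun m _ hm => by rw [notMem_support_iff.1 hm, map_zero]
  have hLv : L v ∈ Ideal.span (Set.range g) := by
    rw [hdec, map_sum]
    refine Ideal.sum_mem _ fun m _ => htriv _ (hf _ ?_) m
    simp only [smul_eq_mul]
    simpa [coeff_sum, coeff_C_mul] using congrArg (coeff m) hv0
  have hLa : L v = -a := by
    rw [Fintype.linearCombination_apply, huniv, Finset.sum_insert hcn,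
      Finset.sum_image fun i _ i' _ h => hJ h, huc, hvc]
    simp only [hvJ, huJ, smul_eq_mul, mul_one, mul_neg, Finset.sum_neg_distrib]
    ring
  rw [hLa] at hLv
  exact neg_mem_iff.1 hLv

variable (f : Fin n → R)

/-- The standard generators of the cokernel of a section. -/
def gen (l : Fin n) : (Fin n → R) ⧸ Submodule.span R {f} := Submodule.Quotient.mk (Pi.single l 1)

theorem sum_smul_gen (c : Fin n → R) : ∑ l, c l • gen f l = Submodule.Quotient.mk c := by
  conv_rhs => rw [pi_eq_sum_univ c, ← Submodule.mkQ_apply, map_sum]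
  refine Finset.sum_congr rfl fun l _ => ?_
  rw [map_smul, Submodule.mkQ_apply, gen]
  congr 2
  funext j
  simp [Pi.single_apply, eq_comm]

theorem span_gen : Submodule.span R (Set.range (gen f)) = ⊤ := by
  refine eq_top_iff.2 fun z _ => ?_
  obtain ⟨c, rfl⟩ := Submodule.Quotient.mk_surjective _ z
  exact (Submodule.mem_span_range_iff_exists_fun R).2 ⟨c, sum_smul_gen f c⟩

theorem rel_gen : rel (R := R) (gen f) =
    Submodule.span R (Set.range fun (_ : Fin 1) l => (Matrix.of fun l (_ : Fin 1) => f l) l 0) := by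
  rw [Set.range_const]
  ext c
  rw [mem_rel, sum_smul_gen, Submodule.Quotient.mk_eq_zero]
  rfl

theorem fitt_coker (j : ℕ) : Fitt.ideal R ((Fin n → R) ⧸ Submodule.span R {f}) j =
    minorsIdeal (Matrix.of fun l (_ : Fin 1) => f l) (n - j) := by
  refine ideal_of_presentation (gen f) (span_gen f) _ ((rel_gen f).trans ?_) j
  congr 2

/-- The Fitting ideal of index `n - 1` is the ideal of the sequence. -/
theorem fitt_top (hn : 1 ≤ n) :
    Fitt.ideal R ((Fin n → R) ⧸ Submodule.span R {f}) (n - 1) = Ideal.span (Set.range f) := by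
  rw [fitt_coker, show n - (n - 1) = 1 by omega]
  refine le_antisymm (Ideal.span_le.2 ?_) (Ideal.span_le.2 ?_)
  · rintro _ ⟨e, c, rfl⟩
    rw [Matrix.det_fin_one]
    exact Ideal.subset_span ⟨e 0, rfl⟩
  · rintro _ ⟨l, rfl⟩
    refine Ideal.subset_span ⟨fun _ => l, fun _ => 0, ?_⟩
    rw [Matrix.det_fin_one]
    rfl

/-- The lower Fitting ideals vanish. -/
theorem fitt_lower {j : ℕ} (hj : j < n - 1) :
    Fitt.ideal R ((Fin n → R) ⧸ Submodule.span R {f}) j = ⊥ := by
  rw [fitt_coker, eq_bot_iff, minorsIdeal, Ideal.span_le]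
  rintro _ ⟨e, c, rfl⟩
  refine Matrix.det_zero_of_column_eq (i := (⟨0, by omega⟩ : Fin (n - j))) (j := ⟨1, by omega⟩)
    (by simp [Fin.ext_iff]) fun l => ?_
  simp only [Matrix.submatrix_apply, Matrix.of_apply]

/-- In a chart of the Grassmannian of corank one quotients, the ideal of the sequence is generated by a
nonzerodivisor. -/
theorem exists_generator (hn : 1 ≤ n) (hf : CInt.KoszulH1Zero f R) (J : Fin (n - 1) → Fin n)
    (hJ : Function.Injective J) :
    ∃ t : P R (gen f ∘ J), t ∈ nonZeroDivisors (P R (gen f ∘ J)) ∧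
      (Ideal.span (Set.range f)).map (algebraMap R (P R (gen f ∘ J))) = Ideal.span {t} := by
  classical
  obtain ⟨c, hc⟩ : ∃ c, (Finset.univ.image J)ᶜ = {c} := by
    rw [← Finset.card_eq_one, Finset.card_compl, Finset.card_image_of_injective _ hJ, Finset.card_univ,
      Fintype.card_fin, Fintype.card_fin]
    omega
  have hcJ : ∀ i, J i ≠ c := fun i h => by
    have := hc.symm ▸ Finset.mem_singleton_self c
    rw [Finset.mem_compl] at this
    exact this (Finset.mem_image.2 ⟨i, Finset.mem_univ i, h⟩)
  have hall : ∀ l, l = c ∨ l ∈ Set.range J := fun l => by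
    by_cases h : l ∈ Finset.univ.image J
    · obtain ⟨i, -, rfl⟩ := Finset.mem_image.1 h
      exact Or.inr ⟨i, rfl⟩
    · exact Or.inl (Finset.mem_singleton.1 (hc ▸ Finset.mem_compl.2 h))
  have huniv : (Finset.univ : Finset (Fin n)) = insert c (Finset.univ.image J) := by
    refine (Finset.eq_univ_of_forall fun l => ?_).symm
    rcases hall l with h | ⟨i, rfl⟩
    · exact Finset.mem_insert.2 (Or.inl h)
    · exact Finset.mem_insert.2 (Or.inr (Finset.mem_image_of_mem J (Finset.mem_univ i)))
  have hcn : c ∉ Finset.univ.image J := by simpa using hcJ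
  have split : ∀ {A : Type u} [AddCommMonoid A] (F : Fin n → A), ∑ l, F l = F c + ∑ i, F (J i) := by
    intro A _ F
    rw [huniv, Finset.sum_insert hcn, Finset.sum_image fun i _ i' _ h => hJ h]
  let Pr := P R (gen f ∘ J)
  let φ := univMap R (gen f ∘ J)
  let w : Fin (n - 1) → Pr := φ.1 (gen f c)
  have hw : ∀ i, algebraMap R Pr (f (J i)) + algebraMap R Pr (f c) * w i = 0 := fun i => by
    have h1 : ∑ l, f l • gen f l = 0 := by
      rw [sum_smul_gen, Submodule.Quotient.mk_eq_zero]
      exact Submodule.mem_span_singleton_self f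
    have h2 := congrFun (congrArg φ.1 h1) i
    rw [split] at h2
    simp only [map_add, map_sum, map_smul, map_zero, Pi.add_apply, Finset.sum_apply, Pi.smul_apply,
      Pi.zero_apply] at h2
    rw [Finset.sum_eq_single i (fun j _ hj => ?_) fun h => absurd (Finset.mem_univ i) h] at h2
    · rw [show φ.1 (gen f (J i)) i = 1 by rw [show gen f (J i) = (gen f ∘ J) i from rfl, φ.2, Pi.single_eq_same],
        ← Algebra.algebraMap_eq_smul_one, add_comm] at h2
      exact (congrArg _ (Algebra.smul_def (f c) (w i)).symm).trans h2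
    · rw [show φ.1 (gen f (J j)) i = 0 by
        rw [show gen f (J j) = (gen f ∘ J) j from rfl, φ.2, Pi.single_eq_of_ne (Ne.symm hj)], smul_zero]
  refine ⟨algebraMap R Pr (f c), ?_, ?_⟩
  swap
  · refine le_antisymm ?_ ?_
    · rw [Ideal.map_le_iff_le_comap, Ideal.span_le]
      rintro _ ⟨l, rfl⟩
      refine Ideal.mem_span_singleton'.2 ?_
      rcases hall l with rfl | ⟨i, rfl⟩
      · exact ⟨1, one_mul _⟩
      · exact ⟨-w i, by linear_combination -(hw i)⟩
    · rw [Ideal.span_singleton_le_iff_mem]
      exact Ideal.mem_map_of_mem _ (Ideal.subset_span ⟨c, rfl⟩)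
  let g : Fin (n - 1) → MvPolynomial (Fin (n - 1)) R := fun i =>
    MvPolynomial.C (f (J i)) + MvPolynomial.C (f c) * MvPolynomial.X i
  let Q := MvPolynomial (Fin (n - 1)) R ⧸ Ideal.span (Set.range g)
  let row : Fin n → Fin (n - 1) → Q := fun l i =>
    (if l = c then Ideal.Quotient.mk _ (MvPolynomial.X i) else 0) + if l = J i then 1 else 0
  let φ₀ : (Fin n → R) →ₗ[R] Fin (n - 1) → Q := (Pi.basisFun R (Fin n)).constr R row
  have hφ₀ : ∀ l, φ₀ (Pi.single l 1) = row l := fun l => by
    rw [← Pi.basisFun_apply]
    exact Module.Basis.constr_basis _ _ _ _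
  have hφf : φ₀ f = 0 := by
    rw [pi_eq_sum_univ f, map_sum]
    funext i
    rw [Finset.sum_apply, split]
    have hs : ∀ l : Fin n, (fun j => if l = j then (1 : R) else 0) = Pi.single l 1 := fun l => by
      funext j
      simp [Pi.single_apply, eq_comm]
    simp only [map_smul, hs, hφ₀, Pi.smul_apply, row, Pi.zero_apply, if_neg (fun h : c = J i => hcJ i h.symm),
      if_neg (hcJ _), add_zero, zero_add, hJ.eq_iff, smul_ite, smul_zero, Finset.sum_ite_eq',
      Finset.mem_univ, if_true, ← Algebra.algebraMap_eq_smul_one]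
    rw [Algebra.smul_def (f c) (Ideal.Quotient.mk (Ideal.span (Set.range g)) (MvPolynomial.X i)),
      show algebraMap R Q (f c) = Ideal.Quotient.mk _ (MvPolynomial.C (f c)) from rfl,
      show algebraMap R Q (f (J i)) = Ideal.Quotient.mk _ (MvPolynomial.C (f (J i))) from rfl,
      ← map_mul, ← map_add, Ideal.Quotient.eq_zero_iff_mem, add_comm]
    exact Ideal.subset_span ⟨i, rfl⟩
  let φQ : ChartMap R Q (gen f ∘ J) :=
    ⟨(Submodule.span R {f}).liftQ φ₀ (by
      rw [Submodule.span_le, Set.singleton_subset_iff]; exact hφf), fun j => by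
      show φ₀ (Pi.single (J j) 1) = _
      rw [hφ₀]
      funext i
      simp only [row, if_neg (hcJ j), zero_add, hJ.eq_iff, Pi.single_apply]
      exact if_congr eq_comm rfl rfl⟩
  let Φ : Q →ₐ[R] Pr := Ideal.Quotient.liftₐ _ (MvPolynomial.aeval w) fun a ha => by
    rw [← RingHom.mem_ker]
    refine Ideal.span_le.mpr ?_ ha
    rintro _ ⟨i, rfl⟩
    simp only [SetLike.mem_coe, RingHom.mem_ker, g, map_add, map_mul, MvPolynomial.aeval_X,
      MvPolynomial.aeval_C]
    exact hw i
  have hΦX : ∀ i, Φ (Ideal.Quotient.mk _ (MvPolynomial.X i)) = w i := fun i =>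
    MvPolynomial.aeval_X w i
  have hid : Φ.comp (chartHom φQ) = AlgHom.id R Pr := chart_ext _ _ (by
    rw [uU, map_ofCoef, map_ofCoef]
    congr 1
    refine Subtype.ext (LinearMap.ext_on_range (span_gen f) fun l => funext fun i => ?_)
    rw [ChartMap.map_apply, ChartMap.map_apply, AlgHom.coe_id, Function.id_comp, Function.comp_apply,
      AlgHom.comp_apply]
    have h := congrFun (LinearMap.congr_fun (congrArg Subtype.val (chartHom_univ φQ)) (gen f l)) i
    rw [ChartMap.map_apply, Function.comp_apply] at h
    rw [h]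
    show Φ (φ₀ (Pi.single l 1) i) = φ.1 (gen f l) i
    rw [hφ₀]
    rcases hall l with rfl | ⟨j, rfl⟩
    · simp only [row, if_true, if_neg (fun h : l = J i => hcJ i h.symm), add_zero, hΦX]
      rfl
    · rw [show gen f (J j) = (gen f ∘ J) j from rfl, φ.2]
      simp only [row, if_neg (hcJ j), zero_add, hJ.eq_iff, Pi.single_apply, apply_ite Φ, map_one,
        map_zero]
      exact if_congr eq_comm rfl rfl)
  refine mem_nonZeroDivisors_iff_right.2 fun y hy => ?_
  have h1 : chartHom φQ y * algebraMap R Q (f c) = 0 := by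
    rw [← (chartHom φQ).commutes, ← map_mul, hy, map_zero]
  obtain ⟨a, ha⟩ := Ideal.Quotient.mk_surjective (chartHom φQ y)
  have h2 : chartHom φQ y = 0 := by
    rw [← ha] at h1 ⊢
    rw [show algebraMap R Q (f c) = Ideal.Quotient.mk _ (MvPolynomial.C (f c)) from rfl, ← map_mul,
      Ideal.Quotient.eq_zero_iff_mem] at h1
    exact Ideal.Quotient.eq_zero_iff_mem.2 (mem_span_of_mul_mem f hf J c hJ hcJ hall a h1)
  rw [← AlgHom.id_apply (R := R) y, ← hid, AlgHom.comp_apply, h2, map_zero]

end Groth.Misc7.KoszulBlowUpGrass
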