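import Groth.Agent.Misc7.KoszulBlowUpGrass.Algebra
import Groth.Agent.Misc7.DegeneracyBlowUp.Scheme
import Groth.Agent.GrassRep.Free
import Groth.Agent.BlowUpBasics.Global
import Groth.Agent.BlowUpLCI.BaseChange
import Groth.Agent.BlowUpBasics.Universal
import Groth.Agent.HTopHyper.HSheafAlmostBlowUp

/-!
The Grassmannian of corank one quotients of the cokernel of a Koszul-regular section is the blow-up
of its ideal.
-/

set_option autoImplicit false
set_option backward.isDefEq.respectTransparency false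
set_option linter.style.haveILetI false

universe u

open CategoryTheory CategoryTheory.Limits AlgebraicGeometry TensorProduct Groth.GrassRep
open Groth.BlowUpBasics

namespace Groth.Misc7.KoszulBlowUpGrass

variable {R : Type u} [CommRing R]

theorem isEffCartierIdeal_Spec {S : Type u} [CommRing S] (φ : R →+* S) {I : Ideal R} {t : S}
    (ht : t ∈ nonZeroDivisors S) (hI : I.map φ = Ideal.span {t}) :
    BlowUp.IsEffCartierIdeal ((sheafOf I).comap (Spec.map (CommRingCat.ofHom φ))) := by
  intro x
  refine ⟨⟨⊤, isAffineOpen_top _⟩, trivial, (Scheme.ΓSpecIso (CommRingCat.of S)).inv.hom t, ?_, ?_⟩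
  · exact map_mem_nonZeroDivisors_of_flat (RingHom.Flat.of_bijective
      (ConcreteCategory.bijective_of_isIso (Scheme.ΓSpecIso (CommRingCat.of S)).inv)) ht
  · rw [ideal_comap_sheafOf, phi_Spec, ← Ideal.map_map, hI, Ideal.map_span, Set.image_singleton]

theorem isBlowUp_grass {n : ℕ} (f : Fin n → R) (hn : 1 ≤ n) (hf : CInt.KoszulH1Zero f R) :
    BlowUp.IsBlowUp (grass R ((Fin n → R) ⧸ Submodule.span R {f}) (n - 1)).hom
      (sheafOf (Ideal.span (Set.range f))) := by
  refine ⟨?_, fun Y g hg => ?_⟩
  · refine Groth.BlowUpLCI.isEffCartierIdeal_of_openCover fun y => ?_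
    obtain ⟨x, hxs, hy, K, N, hK, hN⟩ := exists_chart_mem (span_gen f) y
    choose J hJ using hxs
    obtain rfl : gen f ∘ J = x := funext hJ
    have hJi : Function.Injective J := fun i i' h => by
      by_contra hne
      have h1 := coef_self hN i
      rw [show (gen f ∘ J) i = (gen f ∘ J) i' from congrArg (gen f) h, coef_self hN i'] at h1
      simpa [Pi.single_apply, hne] using congrFun h1 i
    obtain ⟨t, ht, hI⟩ := exists_generator f hn hf J hJi
    refine ⟨_, (jj R _ (n - 1) (gen f ∘ J)).left, inferInstance, hy, ?_⟩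
    rw [← Scheme.IdealSheafData.comap_comp, Over.w (jj R _ (n - 1) (gen f ∘ J))]
    exact isEffCartierIdeal_Spec _ ht hI
  · let T : Over (Spec (CommRingCat.of R)) := Over.mk g
    have hT : BlowUp.IsEffCartierIdeal
        ((sheafOf (Fitt.ideal R ((Fin n → R) ⧸ Submodule.span R {f}) (n - 1))).comap T.hom) := by
      rw [fitt_top f hn]; exact hg
    obtain ⟨l⟩ := Groth.Misc7.DegeneracyBlowUp.exists_hom_of_isCartier
      (X := grass R ((Fin n → R) ⧸ Submodule.span R {f}) (n - 1)) (fun A => pts R _ (n - 1) A) (T := T) hT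
      fun U j hj => by rw [fitt_lower f hj, Ideal.map_bot]
    refine ⟨l.left, Over.w l, fun h hh => ?_⟩
    exact congrArg CommaMorphism.left (Groth.Misc7.DegeneracyBlowUp.hom_eq_of_isCartier
      (X := grass R ((Fin n → R) ⧸ Submodule.span R {f}) (n - 1)) (fun A => pts R _ (n - 1) A) (T := T) hT
      (Over.homMk h hh) l)

theorem koszulH1Zero_of_ofFn {n : ℕ} {f : Fin n → R} (hf : LCI.IsKoszulRegularSeq R (List.ofFn f)) :
    CInt.KoszulH1Zero f R := by
  have h := Groth.KoszulReg.koszulH1Zero_of_isKoszulRegularSeq hf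
  have key : ∀ {m : ℕ} (h : m = n) (g : Fin m → R), g = f ∘ Fin.cast h → CInt.KoszulH1Zero g R →
      CInt.KoszulH1Zero f R := by
    rintro m rfl g hg h
    rwa [show f = g from hg.symm]
  exact key List.length_ofFn (List.ofFn f).get (funext fun i => by simp; rfl) h

/-- The blow-up represents the Grassmannian functor of corank one quotients. -/
theorem exists_points {n : ℕ} (f : Fin n → R) (hn : 1 ≤ n)
    (hf : LCI.IsKoszulRegularSeq R (List.ofFn f)) {B : Scheme.{u}} (b : B ⟶ Spec (CommRingCat.of R))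
    (hb : BlowUp.IsBlowUp b
      (Spec.map (CommRingCat.ofHom (Ideal.Quotient.mk (Ideal.span (Set.range f))))).ker) :
    ∃ e : ∀ A : CommAlgCat.{u} R,
        (Pt A ⟶ Over.mk b) ≃
          (Module.Grassmannian.functor (R := R) (M := (Fin n → R) ⧸ Submodule.span R {f}) (n - 1)).obj A,
      Natural (Over.mk b) e := by
  rw [Groth.HTopHyper.HSheafABU.ker_SpecMap_mk] at hb
  obtain ⟨i, hi⟩ := exists_iso_of_isBlowUp hb (isBlowUp_grass f hn (koszulH1Zero_of_ofFn hf))
  let E : Over.mk b ≅ grass R ((Fin n → R) ⧸ Submodule.span R {f}) (n - 1) := Over.isoMk i hi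
  refine ⟨fun A => (Iso.homCongr (Iso.refl (Pt A)) E).trans (pts R _ (n - 1) A), fun A A' φ g g' h => ?_⟩
  have hg : g' = ptMap φ ≫ g := Over.OverMorphism.ext h
  subst hg
  rw [Module.Grassmannian.functor_map]
  simp only [Equiv.trans_apply, Iso.homCongr_apply, Iso.refl_inv, Category.id_comp, Category.assoc]
  exact pts_natural A A' φ (g ≫ E.hom)

end Groth.Misc7.KoszulBlowUpGrass
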